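import Mathlib.FieldTheory.SeparableDegree
import Mathlib.FieldTheory.PurelyInseparable.Basic
import Mathlib.FieldTheory.IsAlgClosed.AlgebraicClosure
import Mathlib.FieldTheory.Normal.Basic
import Mathlib.RingTheory.LocalRing.Length
import Mathlib.RingTheory.Artinian.Ring
import Mathlib.RingTheory.Spectrum.Prime.Noetherian
import Mathlib.RingTheory.Spectrum.Prime.Topology
import Mathlib.RingTheory.Spectrum.Maximal.Localization
import Mathlib.RingTheory.TensorProduct.Maps
import Mathlib.LinearAlgebra.Dimension.Constructions
import Mathlib.LinearAlgebra.TensorProduct.Tower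

/-!
# The local factors of `K ⊗[k] L` for `K` an algebraic closure of `k` and `L/k` finite

Each of them has length `[L:k]_i`.
-/

set_option autoImplicit false
set_option linter.style.haveILetI false
universe u

open TensorProduct

namespace Groth.Agent.Lib.InsepFibre

variable (k : Type u) [Field k] (K : Type u) [Field K] [Algebra k K] [IsAlgClosed K]
  (L : Type u) [Field L] [Algebra k L] [FiniteDimensional k L]

/-- The prime of `K ⊗[k] L` attached to an embedding of `L` into `K`. -/
noncomputable def primeOf (φ : L →ₐ[k] K) : PrimeSpectrum (K ⊗[k] L) :=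
  ⟨RingHom.ker (Algebra.TensorProduct.lift (AlgHom.id K K) φ fun _ _ => .all _ _),
    RingHom.ker_isPrime _⟩

theorem primeOf_bijective : Function.Bijective (primeOf k K L) := by
  constructor
  · intro φ ψ h
    ext l
    have h' := congrArg PrimeSpectrum.asIdeal h
    have : φ l ⊗ₜ[k] (1 : L) - (1 : K) ⊗ₜ[k] l ∈ (primeOf k K L φ).asIdeal := by
      simp [primeOf, RingHom.mem_ker]
    rw [h'] at this
    simpa [primeOf, RingHom.mem_ker, sub_eq_zero] using this
  · intro q
    haveI : IsArtinianRing (K ⊗[k] L) := IsArtinianRing.of_finite K _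
    haveI : q.asIdeal.IsMaximal := IsArtinianRing.isMaximal_of_isPrime q.asIdeal
    letI := Ideal.Quotient.field q.asIdeal
    let e : K ≃ₐ[K] (K ⊗[k] L) ⧸ q.asIdeal := AlgEquiv.ofBijective (Algebra.ofId K _)
      (IsAlgClosed.algebraMap_bijective_of_isIntegral (k := K) (K := (K ⊗[k] L) ⧸ q.asIdeal))
    let Φ : K ⊗[k] L →ₐ[K] K := e.symm.toAlgHom.comp (Ideal.Quotient.mkₐ K q.asIdeal)
    refine ⟨(Φ.restrictScalars k).comp Algebra.TensorProduct.includeRight, PrimeSpectrum.ext ?_⟩
    have hΦ : Algebra.TensorProduct.lift (AlgHom.id K K)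
        ((Φ.restrictScalars k).comp Algebra.TensorProduct.includeRight) (fun _ _ => .all _ _) = Φ :=
      Algebra.TensorProduct.ext (AlgHom.ext fun a => by
        simpa using (Φ.commutes a).symm) (AlgHom.ext fun l => by simp)
    show RingHom.ker _ = _
    rw [hΦ]
    ext a
    simp [Φ, RingHom.mem_ker, Ideal.Quotient.eq_zero_iff_mem]

theorem exists_aut [Algebra.IsAlgebraic k K] (φ ψ : L →ₐ[k] K) :
    ∃ σ : K ≃ₐ[k] K, ∀ l, σ (φ l) = ψ l := by
  haveI : IsAlgClosure k K := ⟨inferInstance, inferInstance⟩
  haveI : Normal k K := IsAlgClosure.normal k K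
  let ψ' : φ.fieldRange →ₐ[k] K := ψ.comp (AlgEquiv.ofInjectiveField φ).symm.toAlgHom
  let g : K →ₐ[k] K := ψ'.liftNormal K
  have hg : ∀ l, g (φ l) = ψ l := fun l => by
    have h := ψ'.liftNormal_commutes K (AlgEquiv.ofInjectiveField φ l)
    have e1 : ψ' (AlgEquiv.ofInjectiveField φ l) = ψ l :=
      congrArg ψ ((AlgEquiv.ofInjectiveField φ).symm_apply_apply l)
    exact h.trans e1
  exact ⟨AlgEquiv.ofBijective g (Algebra.IsAlgebraic.algHom_bijective g), hg⟩

theorem length_localization [Algebra.IsAlgebraic k K] (q : Ideal (K ⊗[k] L)) [q.IsPrime] :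
    Module.length (Localization.AtPrime q) (Localization.AtPrime q) =
      (Field.finInsepDegree k L : ℕ∞) := by
  classical
  set R := K ⊗[k] L
  haveI : IsArtinianRing R := IsArtinianRing.of_finite K _
  haveI : Finite (PrimeSpectrum R) := Finite.of_surjective _ (primeOf_bijective k K L).2
  haveI : Fintype (PrimeSpectrum R) := Fintype.ofFinite _
  have hfin : ∀ p : PrimeSpectrum R, Module.Finite K (Localization.AtPrime p.asIdeal) := fun p =>
    Module.Finite.of_surjective (IsScalarTower.toAlgHom K R (Localization.AtPrime p.asIdeal)).toLinearMap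
      (IsArtinianRing.localization_surjective p.asIdeal.primeCompl _)
  have hlen : ∀ p : PrimeSpectrum R,
      Module.length (Localization.AtPrime p.asIdeal) (Localization.AtPrime p.asIdeal) =
        Module.finrank K (Localization.AtPrime p.asIdeal) := by
    intro p
    haveI := hfin p
    haveI : IsLocalHom (algebraMap K (Localization.AtPrime p.asIdeal)) := inferInstance
    rw [← Module.length_eq_finrank, IsLocalRing.length_restrictScalars K
      (Localization.AtPrime p.asIdeal) (Localization.AtPrime p.asIdeal)]
    suffices Module.length (IsLocalRing.ResidueField K)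
        (IsLocalRing.ResidueField (Localization.AtPrime p.asIdeal)) = 1 by rw [this, mul_one]
    rw [Module.length_eq_finrank, Nat.cast_eq_one]
    haveI : IsAlgClosed (IsLocalRing.ResidueField K) :=
      IsAlgClosed.of_ringEquiv K _ (RingEquiv.ofBijective (IsLocalRing.residue K)
        ⟨RingHom.injective _, IsLocalRing.residue_surjective⟩)
    haveI : Algebra.IsIntegral (IsLocalRing.ResidueField K)
        (IsLocalRing.ResidueField (Localization.AtPrime p.asIdeal)) := inferInstance
    exact finrank_eq_one_iff'.2 ⟨1, one_ne_zero, fun w => by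
      obtain ⟨c, hc⟩ := (IsAlgClosed.algebraMap_bijective_of_isIntegral
        (k := IsLocalRing.ResidueField K)).2 w
      exact ⟨c, by rw [← hc, Algebra.algebraMap_eq_smul_one]⟩⟩
  have heq : ∀ p : PrimeSpectrum R, Module.finrank K (Localization.AtPrime p.asIdeal) =
      Module.finrank K (Localization.AtPrime q) := by
    intro p
    obtain ⟨φ, rfl⟩ := (primeOf_bijective k K L).2 p
    obtain ⟨ψ, hψ⟩ := (primeOf_bijective k K L).2 ⟨q, inferInstance⟩
    obtain ⟨σ, hσ⟩ := exists_aut k K L φ ψ
    let e : R ≃+* R := (Algebra.TensorProduct.congr σ (AlgEquiv.refl : L ≃ₐ[k] L)).toRingEquiv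
    have he : q.comap e.toRingHom = (primeOf k K L φ).asIdeal := by
      have hq : q = (primeOf k K L ψ).asIdeal := (congrArg PrimeSpectrum.asIdeal hψ).symm
      have hcomp : ((Algebra.TensorProduct.lift (AlgHom.id K K) ψ fun _ _ => .all _ _ :
          R →ₐ[K] K).restrictScalars k).comp
          (Algebra.TensorProduct.congr σ (AlgEquiv.refl : L ≃ₐ[k] L)).toAlgHom =
          σ.toAlgHom.comp ((Algebra.TensorProduct.lift (AlgHom.id K K) φ fun _ _ => .all _ _ :
          R →ₐ[K] K).restrictScalars k) :=
        Algebra.TensorProduct.ext (AlgHom.ext fun a => by simp) (AlgHom.ext fun l => by simp [hσ])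
      ext a
      rw [hq, Ideal.mem_comap]
      simp only [primeOf, RingHom.mem_ker]
      have := AlgHom.congr_fun hcomp a
      simp only [AlgHom.coe_comp, Function.comp_apply, AlgHom.coe_restrictScalars'] at this
      exact (iff_of_eq (congrArg (· = 0) this)).trans (map_eq_zero_iff σ σ.injective)
    let E : Localization.AtPrime (primeOf k K L φ).asIdeal ≃+* Localization.AtPrime q :=
      IsLocalization.ringEquivOfRingEquiv (M := (primeOf k K L φ).asIdeal.primeCompl)
        (T := q.primeCompl) _ _ e (by
        ext a
        constructor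
        · rintro ⟨b, hb, rfl⟩
          intro hc
          exact hb (he ▸ hc)
        · intro ha
          refine ⟨e.symm a, fun hc => ha ?_, e.apply_symm_apply a⟩
          rw [← he, SetLike.mem_coe, Ideal.mem_comap] at hc
          simpa using hc)
    have h1 := hlen (primeOf k K L φ)
    have h2 := hlen ⟨q, inferInstance⟩
    have h3 : Module.length (Localization.AtPrime (primeOf k K L φ).asIdeal)
        (Localization.AtPrime (primeOf k K L φ).asIdeal) =
        Module.length (Localization.AtPrime q) (Localization.AtPrime q) := by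
      have : RingHomSurjective E.toRingHom := ⟨E.surjective⟩
      let el : Localization.AtPrime (primeOf k K L φ).asIdeal →ₛₗ[E.toRingHom]
          Localization.AtPrime q :=
        { toFun := E, map_add' := map_add E, map_smul' := fun a b => map_mul E a b }
      rw [Module.length, Module.length, WithBot.unbot_inj]
      exact Order.krullDim_eq_of_orderIso (Submodule.orderIsoMapComapOfBijective el E.bijective)
    rw [h1, h2] at h3
    exact_mod_cast h3
  have hsum : Module.finrank k L =
      Field.finSepDegree k L * Module.finrank K (Localization.AtPrime q) := by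
    haveI := hfin
    let P : R →ₗ[K] PrimeSpectrum.PiLocalization R :=
      ((PrimeSpectrum.toPiLocalization R).restrictScalars K).toLinearMap
    have hP : Function.Bijective P := PrimeSpectrum.toPiLocalization_bijective
    calc Module.finrank k L = Module.finrank K R := Module.finrank_baseChange.symm
      _ = Module.finrank K (PrimeSpectrum.PiLocalization R) := (LinearEquiv.ofBijective P hP).finrank_eq
      _ = ∑ p : PrimeSpectrum R, Module.finrank K (Localization.AtPrime p.asIdeal) :=
          Module.finrank_pi_fintype K
      _ = _ := by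
        rw [Finset.sum_congr rfl (fun p _ => heq p), Finset.sum_const, Finset.card_univ, smul_eq_mul,
          ← Nat.card_eq_fintype_card, ← Nat.card_eq_of_bijective _ (primeOf_bijective k K L),
          Field.finSepDegree_eq_of_isAlgClosed k L K]
  rw [hlen ⟨q, inferInstance⟩]
  congr 1
  rw [← Field.finSepDegree_mul_finInsepDegree k L] at hsum
  exact (Nat.eq_of_mul_eq_mul_left (Nat.pos_of_ne_zero (NeZero.ne _)) hsum).symm

end Groth.Agent.Lib.InsepFibre
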